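import Mathlib
import Cfsg.Prelude.Def_GeometricClasses

/-!
# Transvections `1 + v φᵀ` and generation of `SL`

Helper library (helper97): general transvections as matrices, the elements of `GL` they define,
linear functionals as row vectors, and the fact that a subgroup of `GL ι F` containing every
transvection contains the special linear group `Cfsg.Geo.specialLinear ι F`.
-/

set_option autoImplicit false

namespace Cfsg.Agent.Lib.Helper97

open Matrix

variable {ι : Type} [Fintype ι] [DecidableEq ι] {F : Type*} [Field F]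

/-- The matrix `1 + v φᵀ`. -/
def tv (v φ : ι → F) : Matrix ι ι F := 1 + vecMulVec v φ

lemma tv_mulVec (v φ y : ι → F) : tv v φ *ᵥ y = y + (φ ⬝ᵥ y) • v := by
  rw [tv, Matrix.add_mulVec, Matrix.one_mulVec, Matrix.vecMulVec_mulVec, op_smul_eq_smul]

lemma tv_det {v φ : ι → F} (h : φ ⬝ᵥ v = 0) : (tv v φ).det = 1 := by
  rw [tv, Matrix.vecMulVec_eq Unit, Matrix.det_one_add_replicateCol_mul_replicateRow, h, add_zero]

/-- The element of `GL` with matrix `tv v φ`, for `φ ⬝ᵥ v = 0`. -/
noncomputable def tvG (v φ : ι → F) (h : φ ⬝ᵥ v = 0) : GL ι F :=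
  Matrix.GeneralLinearGroup.mkOfDetNeZero (tv v φ) (by rw [tv_det h]; exact one_ne_zero)

lemma tvG_val (v φ : ι → F) (h : φ ⬝ᵥ v = 0) : ((tvG v φ h : GL ι F) : Matrix ι ι F) = tv v φ := rfl

lemma mem_specialLinear_iff (g : GL ι F) :
    g ∈ Cfsg.Geo.specialLinear ι F ↔ (g : Matrix ι ι F).det = 1 := by
  unfold Cfsg.Geo.specialLinear
  rw [MonoidHom.mem_ker, Units.ext_iff, Matrix.GeneralLinearGroup.val_det_apply, Units.val_one]

lemma tvG_mem_specialLinear (v φ : ι → F) (h : φ ⬝ᵥ v = 0) :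
    tvG v φ h ∈ Cfsg.Geo.specialLinear ι F := by
  rw [mem_specialLinear_iff, tvG_val, tv_det h]

lemma mem_subspaceStabilizer_iff (W : Submodule F (ι → F)) (g : GL ι F) :
    g ∈ Cfsg.Geo.subspaceStabilizer W ↔ ∀ y, y ∈ W ↔ (g : Matrix ι ι F) *ᵥ y ∈ W := Iff.rfl

/-- A linear functional, as a row vector, vanishing on a subspace `P` and taking the value `1`
at a given vector outside `P`. -/
lemma exists_dot (P : Submodule F (ι → F)) (x : ι → F) (hx : x ∉ P) :
    ∃ φ : ι → F, (∀ y ∈ P, φ ⬝ᵥ y = 0) ∧ φ ⬝ᵥ x = 1 := by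
  obtain ⟨f, hfx, hfP⟩ := Submodule.exists_le_ker_of_notMem hx
  set φ : ι → F := fun j => (f x)⁻¹ * f (fun k => if j = k then 1 else 0) with hφ
  have hdot : ∀ y : ι → F, φ ⬝ᵥ y = (f x)⁻¹ * f y := by
    intro y
    rw [LinearMap.pi_apply_eq_sum_univ f y, Finset.mul_sum]
    unfold dotProduct
    apply Finset.sum_congr rfl
    intro j _
    rw [hφ, smul_eq_mul]
    ring
  refine ⟨φ, fun y hy => ?_, ?_⟩
  · rw [hdot, LinearMap.mem_ker.mp (hfP hy), mul_zero]
  · rw [hdot, inv_mul_cancel₀ hfx]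

/-- Column-wise extensionality for square matrices. -/
lemma ext_mulVec_single {A B : Matrix ι ι F}
    (h : ∀ m : ι, A *ᵥ Pi.single m 1 = B *ᵥ Pi.single m 1) : A = B := by
  ext k l
  have := congrFun (h l) k
  simpa [Matrix.mulVec_single_one] using this

/-- `diag(c at i, c⁻¹ at j)` is a product of four elementary transvections. -/
lemma diag_eq_tv_mul {i j : ι} (hij : i ≠ j) {c : F} (hc : c ≠ 0) :
    (diagonal (fun k => if k = i then c else if k = j then c⁻¹ else 1) : Matrix ι ι F) =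
      tv (Pi.single j (-c⁻¹)) (Pi.single i 1) * tv (Pi.single i (c - 1)) (Pi.single j 1) *
        tv (Pi.single j 1) (Pi.single i 1) * tv (Pi.single i (c⁻¹ - 1)) (Pi.single j 1) := by
  apply ext_mulVec_single
  intro m
  rw [← Matrix.mulVec_mulVec, ← Matrix.mulVec_mulVec, ← Matrix.mulVec_mulVec]
  simp only [tv_mulVec, Matrix.diagonal_mulVec_single, single_one_dotProduct]
  ext k
  simp only [Pi.add_apply, Pi.smul_apply, Pi.single_apply, smul_eq_mul]
  have hji : j ≠ i := Ne.symm hij
  rcases eq_or_ne m i with rfl | hmi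
  · rcases eq_or_ne k m with rfl | hkm
    · simp [hij, hji]
    · rcases eq_or_ne k j with rfl | hkj
      · simp [hij, hji]
        field_simp
        ring
      · simp [hij, hji, hkm, hkj]
  · rcases eq_or_ne m j with rfl | hmj
    · rcases eq_or_ne k i with rfl | hki
      · simp [hij, hji]
        field_simp
        ring
      · rcases eq_or_ne k m with rfl | hkm
        · simp [hij, hji]
          left
          field_simp
          ring
        · simp [hij, hji, hki, hkm]
    · have hmi' : i ≠ m := Ne.symm hmi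
      have hmj' : j ≠ m := Ne.symm hmj
      rcases eq_or_ne k m with rfl | hkm
      · simp [hij, hji, hmi, hmj, hmi', hmj']
      · simp [hij, hji, hkm, hmi', hmj']

/-- A subgroup of `GL ι F` containing all transvections contains the special linear group. -/
theorem specialLinear_le_of_tv [Nontrivial ι] (M : Subgroup (GL ι F))
    (hM : ∀ (v φ : ι → F), φ ⬝ᵥ v = 0 → ∀ t : GL ι F, (t : Matrix ι ι F) = tv v φ → t ∈ M) :
    Cfsg.Geo.specialLinear ι F ≤ M := by
  have key : ∀ A : Matrix.SpecialLinearGroup ι F, ∀ t : GL ι F,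
      (t : Matrix ι ι F) = (A : Matrix ι ι F) → t ∈ M := by
    intro A
    refine Matrix.SpecialLinearGroup.diagonal_transvection_induction'
      (fun A => ∀ t : GL ι F, (t : Matrix ι ι F) = (A : Matrix ι ι F) → t ∈ M) A ?_ ?_ ?_
    · intro i j hij c hc t ht
      rw [Matrix.SpecialLinearGroup.diag2n_coe, diag_eq_tv_mul hij hc] at ht
      have h1 : (Pi.single i 1 : ι → F) ⬝ᵥ Pi.single j (-c⁻¹) = 0 := by
        simp [hij]
      have h2 : (Pi.single j 1 : ι → F) ⬝ᵥ Pi.single i (c - 1) = 0 := by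
        simp [Ne.symm hij]
      have h3 : (Pi.single i 1 : ι → F) ⬝ᵥ Pi.single j 1 = 0 := by
        simp [hij]
      have h4 : (Pi.single j 1 : ι → F) ⬝ᵥ Pi.single i (c⁻¹ - 1) = 0 := by
        simp [Ne.symm hij]
      have ht' : t = tvG _ _ h1 * tvG _ _ h2 * tvG _ _ h3 * tvG _ _ h4 := by
        apply Units.ext
        rw [ht]
        rfl
      rw [ht']
      exact M.mul_mem (M.mul_mem (M.mul_mem (hM _ _ h1 _ rfl) (hM _ _ h2 _ rfl)) (hM _ _ h3 _ rfl))
        (hM _ _ h4 _ rfl)
    · intro i j hij a t ht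
      have h1 : (Pi.single j 1 : ι → F) ⬝ᵥ Pi.single i a = 0 := by
        simp [Ne.symm hij]
      refine hM (Pi.single i a) (Pi.single j 1) h1 t ?_
      rw [ht, Matrix.SpecialLinearGroup.transvection_coe, tv]
      congr 1
      ext k l
      simp only [Matrix.single_apply, Matrix.vecMulVec_apply, Pi.single_apply]
      rcases eq_or_ne k i with rfl | hki
      · rcases eq_or_ne l j with rfl | hlj
        · simp
        · simp [hlj, Ne.symm hlj]
      · simp [hki, Ne.symm hki]
    · intro A B hA hB t ht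
      have hdA : (A : Matrix ι ι F).det ≠ 0 := by rw [A.det_coe]; exact one_ne_zero
      have hdB : (B : Matrix ι ι F).det ≠ 0 := by rw [B.det_coe]; exact one_ne_zero
      have ht' : t = Matrix.GeneralLinearGroup.mkOfDetNeZero _ hdA *
          Matrix.GeneralLinearGroup.mkOfDetNeZero _ hdB := by
        apply Units.ext
        rw [ht]
        rfl
      rw [ht']
      exact M.mul_mem (hA _ rfl) (hB _ rfl)
  intro s hs
  rw [mem_specialLinear_iff] at hs
  exact key ⟨(s : Matrix ι ι F), hs⟩ s rfl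

/-- The set of centres `v` all of whose transvections lie in `M`. -/
def centres (M : Subgroup (GL ι F)) : Set (ι → F) :=
  {v | ∀ φ : ι → F, φ ⬝ᵥ v = 0 → ∀ t : GL ι F, (t : Matrix ι ι F) = tv v φ → t ∈ M}

lemma centres_smul_mem (M : Subgroup (GL ι F)) {v : ι → F} (hv : v ∈ centres M) {g : GL ι F}
    (hg : g ∈ M) : (g : Matrix ι ι F) *ᵥ v ∈ centres M := by
  intro φ hφ t ht
  have h1 : (φ ᵥ* (g : Matrix ι ι F)) ⬝ᵥ v = 0 := by
    rw [← Matrix.dotProduct_mulVec]; exact hφ
  have h2 : ((g⁻¹ * t * g : GL ι F) : Matrix ι ι F) = tv v (φ ᵥ* (g : Matrix ι ι F)) := by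
    rw [Units.val_mul, Units.val_mul, ht, tv, tv, Matrix.mul_add, Matrix.add_mul, Matrix.mul_one,
      ← Units.val_mul, inv_mul_cancel, Units.val_one, Matrix.mul_vecMulVec, Matrix.vecMulVec_mul,
      Matrix.mulVec_mulVec, ← Units.val_mul, inv_mul_cancel, Units.val_one, Matrix.one_mulVec]
  have h3 := hv _ h1 _ h2
  have h4 : t = g * (g⁻¹ * t * g) * g⁻¹ := by group
  rw [h4]
  exact M.mul_mem (M.mul_mem hg h3) (M.inv_mem hg)

lemma centres_smul (M : Subgroup (GL ι F)) {v : ι → F} (hv : v ∈ centres M) (c : F) :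
    c • v ∈ centres M := by
  intro φ hφ t ht
  have h1 : (c • φ) ⬝ᵥ v = 0 := by
    rw [smul_dotProduct]; rw [dotProduct_smul] at hφ; exact hφ
  refine hv _ h1 t ?_
  rw [ht, tv, tv, Matrix.smul_vecMulVec, Matrix.vecMulVec_smul]

lemma centres_add (M : Subgroup (GL ι F)) {v₁ v₂ : ι → F} (h₁ : v₁ ∈ centres M)
    (h₂ : v₂ ∈ centres M) : v₁ + v₂ ∈ centres M := by
  by_cases hdep : v₂ ∈ Submodule.span F {v₁}
  · obtain ⟨c, rfl⟩ := Submodule.mem_span_singleton.mp hdep
    have h : v₁ + c • v₁ = (1 + c) • v₁ := by rw [add_smul, one_smul]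
    rw [h]
    exact centres_smul M h₁ _
  · obtain ⟨ψ, hψ0, hψ1⟩ := exists_dot _ v₂ hdep
    have h0 : ψ ⬝ᵥ v₁ = 0 := hψ0 v₁ (Submodule.mem_span_singleton_self v₁)
    have ht : tvG v₁ ψ h0 ∈ M := h₁ ψ h0 _ rfl
    have h := centres_smul_mem M h₂ ht
    rw [tvG_val, tv_mulVec, hψ1, one_smul, add_comm] at h
    exact h

/-- The stabiliser in `SL` of a proper non-zero subspace is a maximal subgroup of `SL`. -/
theorem subspaceStabilizer_isMaximalIn [Nontrivial ι] (W : Submodule F (ι → F)) (hW0 : W ≠ ⊥)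
    (hW1 : W ≠ ⊤) :
    Cfsg.Geo.IsMaximalIn (Cfsg.Geo.specialLinear ι F)
      (Cfsg.Geo.subspaceStabilizer W ⊓ Cfsg.Geo.specialLinear ι F) := by
  obtain ⟨x, -, hxW⟩ := SetLike.exists_of_lt (lt_top_iff_ne_top.mpr hW1)
  obtain ⟨w, hwW, hw0⟩ := Submodule.exists_mem_ne_zero_of_ne_bot hW0
  refine ⟨lt_of_le_of_ne inf_le_right ?_, ?_⟩
  · intro heq
    have hwx : w ∉ Submodule.span F {x} := by
      intro hmem
      obtain ⟨c, rfl⟩ := Submodule.mem_span_singleton.mp hmem
      have hc : c ≠ 0 := by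
        rintro rfl
        exact hw0 (zero_smul _ _)
      apply hxW
      have h : x = c⁻¹ • (c • x) := by rw [smul_smul, inv_mul_cancel₀ hc, one_smul]
      rw [h]
      exact W.smul_mem _ hwW
    obtain ⟨φ, hφ0, hφ1⟩ := exists_dot _ w hwx
    have h0 : φ ⬝ᵥ x = 0 := hφ0 x (Submodule.mem_span_singleton_self x)
    have hmem : tvG x φ h0 ∈ Cfsg.Geo.subspaceStabilizer W ⊓ Cfsg.Geo.specialLinear ι F := by
      rw [heq]
      exact tvG_mem_specialLinear _ _ h0
    have h2 := (mem_subspaceStabilizer_iff W _).mp hmem.1 w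
    rw [tvG_val, tv_mulVec, hφ1, one_smul] at h2
    exact hxW ((W.add_mem_iff_right hwW).mp (h2.mp hwW))
  · intro M hHM hMS
    by_cases hMH : M ≤ Cfsg.Geo.subspaceStabilizer W ⊓ Cfsg.Geo.specialLinear ι F
    · left
      exact le_antisymm hMH hHM
    · right
      apply le_antisymm hMS
      obtain ⟨g, hgM, hgH⟩ := SetLike.not_le_iff_exists.mp hMH
      have hgS : g ∉ Cfsg.Geo.subspaceStabilizer W := fun h => hgH ⟨h, hMS hgM⟩
      rw [mem_subspaceStabilizer_iff] at hgS
      push Not at hgS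
      obtain ⟨y, hy⟩ := hgS
      have hex : ∃ g' ∈ M, ∃ w' ∈ W, (g' : Matrix ι ι F) *ᵥ w' ∉ W := by
        by_cases hyW : y ∈ W
        · refine ⟨g, hgM, y, hyW, fun h => ?_⟩
          rcases hy with ⟨_, h'⟩ | ⟨h', _⟩
          · exact h' h
          · exact h' hyW
        · have hgy : (g : Matrix ι ι F) *ᵥ y ∈ W := by
            rcases hy with ⟨h', _⟩ | ⟨_, h'⟩
            · exact absurd h' hyW
            · exact h'
          refine ⟨g⁻¹, M.inv_mem hgM, _, hgy, ?_⟩
          rw [Matrix.mulVec_mulVec, ← Units.val_mul, inv_mul_cancel, Units.val_one,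
            Matrix.one_mulVec]
          exact hyW
      obtain ⟨g', hg'M, w', hw'W, hu⟩ := hex
      have hWc : ∀ z ∈ W, z ∈ centres M := by
        intro z hz φ hφ t ht
        apply hHM
        refine Subgroup.mem_inf.mpr ⟨?_, ?_⟩
        · rw [mem_subspaceStabilizer_iff]
          intro y
          rw [ht, tv_mulVec]
          exact (W.add_mem_iff_left (W.smul_mem _ hz)).symm
        · rw [mem_specialLinear_iff, ht, tv_det hφ]
      have huc : (g' : Matrix ι ι F) *ᵥ w' ∈ centres M := centres_smul_mem M (hWc w' hw'W) hg'M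
      obtain ⟨φ, hφ0, hφ1⟩ := exists_dot W _ hu
      apply specialLinear_le_of_tv
      suffices hall : ∀ x : ι → F, x ∈ centres M from fun v φ h t ht => hall v φ h t ht
      intro x
      have hz0 : φ ⬝ᵥ (x - (φ ⬝ᵥ x) • ((g' : Matrix ι ι F) *ᵥ w')) = 0 := by
        rw [dotProduct_sub, dotProduct_smul, hφ1]
        simp
      have htM : tvG _ φ hz0 ∈ M := by
        apply hHM
        refine Subgroup.mem_inf.mpr ⟨?_, tvG_mem_specialLinear _ _ _⟩
        rw [mem_subspaceStabilizer_iff]
        intro y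
        rw [tvG_val, tv_mulVec]
        constructor
        · intro hy
          rw [hφ0 y hy, zero_smul, add_zero]
          exact hy
        · intro hy
          have h := hφ0 _ hy
          rw [dotProduct_add, dotProduct_smul, hz0, smul_zero, add_zero] at h
          rw [h, zero_smul, add_zero] at hy
          exact hy
      have h1 := centres_smul_mem M huc htM
      rw [tvG_val, tv_mulVec, hφ1, one_smul] at h1
      have h2 := centres_add M h1 (centres_smul M huc (-1))
      have h3 := centres_add M h2 (centres_smul M huc (φ ⬝ᵥ x))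
      have h4 : (g' : Matrix ι ι F) *ᵥ w' + (x - (φ ⬝ᵥ x) • ((g' : Matrix ι ι F) *ᵥ w')) +
          (-1 : F) • ((g' : Matrix ι ι F) *ᵥ w') + (φ ⬝ᵥ x) • ((g' : Matrix ι ι F) *ᵥ w') = x := by
        rw [neg_smul, one_smul]
        abel
      rw [h4] at h3
      exact h3

end Cfsg.Agent.Lib.Helper97
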