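import Mathlib

/-! Piece DEC of project HeO (S2075, helper70's skeleton): the decomposition `C(z) = W·H₀`,
faithfulness on the cosets `wOf a · H₀`, and `|C(z)| = 21504` (adapted from the proof of
`Cfsg.Agent.Lib.Helper86.HeCASM.cent_iso_of_data`). -/

set_option autoImplicit false

namespace Cfsg.Agent.Lib.Helper97.HeODEC

theorem cent_decomp {G : Type} [Group G] [Finite G] (z : G)
    (wOf : (Fin 4 → ZMod 2) → G) (hadd : ∀ a b, wOf (a + b) = wOf a * wOf b)
    (hw0 : wOf (Pi.single 0 1) = z)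
    (H₀ : Subgroup G)
    (hWH : ∀ a, wOf a ∈ H₀ → a = 0)
    (hnorm : ∀ h ∈ H₀, ∀ a, ∃ b, h * wOf a * h⁻¹ = wOf b)
    (hcz : ∀ h ∈ H₀, h * z = z * h)
    (hub : Nat.card (Subgroup.centralizer ({z} : Set G)) ≤ 21504)
    (f : Fin 1344 → G) (hf : ∀ i, f i ∈ H₀)
    (hdist : ∀ i j, (∀ a, f i * wOf a * (f i)⁻¹ = f j * wOf a * (f j)⁻¹) → i = j) :
    (∀ g ∈ Subgroup.centralizer ({z} : Set G), ∃ a i, g = wOf a * f i) ∧
    (∀ g ∈ Subgroup.centralizer ({z} : Set G), (∀ a, (wOf a)⁻¹ * g * wOf a ∈ H₀) → g = 1) ∧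
    Nat.card (Subgroup.centralizer ({z} : Set G)) = 21504 := by
  classical
  have char2 : ∀ a : Fin 4 → ZMod 2, a + a = 0 := by
    intro a; funext i; exact CharTwo.add_self_eq_zero (a i)
  have w0 : wOf 0 = 1 := by
    have h := hadd 0 0
    rw [add_zero] at h
    exact mul_eq_left.mp h.symm
  have wsq : ∀ a, wOf a * wOf a = 1 := by
    intro a
    rw [← hadd, char2, w0]
  have winv : ∀ a, (wOf a)⁻¹ = wOf a := fun a => inv_eq_of_mul_eq_one_left (wsq a)
  have wcomm : ∀ a b, wOf a * wOf b = wOf b * wOf a := by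
    intro a b; rw [← hadd, ← hadd, add_comm]
  have wz : ∀ a, wOf a * z = z * wOf a := by
    intro a; rw [← hw0]; exact wcomm _ _
  have wmem : ∀ a, wOf a ∈ Subgroup.centralizer ({z} : Set G) := by
    intro a
    rw [Subgroup.mem_centralizer_iff]
    intro x hx
    rw [Set.mem_singleton_iff] at hx
    rw [hx]
    exact (wz a).symm
  have Hle : H₀ ≤ Subgroup.centralizer ({z} : Set G) := by
    intro h hh
    rw [Subgroup.mem_centralizer_iff]
    intro x hx
    rw [Set.mem_singleton_iff] at hx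
    rw [hx]
    exact (hcz h hh).symm
  have eq_of_add : ∀ a b : Fin 4 → ZMod 2, a + b = 0 → a = b := by
    intro a b h
    have h2 : a + b + b = 0 + b := by rw [h]
    rw [add_assoc, char2 b, add_zero, zero_add] at h2
    exact h2
  -- the injection `V × H₀ → C(z)`
  let φ : (Fin 4 → ZMod 2) × H₀ → Subgroup.centralizer ({z} : Set G) :=
    fun p => ⟨wOf p.1 * p.2.1, Subgroup.mul_mem _ (wmem p.1) (Hle p.2.2)⟩
  have hφ : Function.Injective φ := by
    rintro ⟨a, h⟩ ⟨b, h'⟩ hab
    have e : wOf a * h.1 = wOf b * h'.1 := congrArg Subtype.val hab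
    have e2 : wOf (b + a) = h'.1 * h.1⁻¹ := by
      rw [hadd, eq_mul_inv_iff_mul_eq, mul_assoc, e, ← mul_assoc, wsq, one_mul]
    have e3 : b + a = 0 := hWH _ (by rw [e2]; exact H₀.mul_mem h'.2 (H₀.inv_mem h.2))
    have e4 : b = a := eq_of_add _ _ e3
    subst e4
    have e5 : h.1 = h'.1 := mul_left_cancel e
    have e6 : h = h' := Subtype.ext e5
    rw [e6]
  have cV : Nat.card (Fin 4 → ZMod 2) = 16 := by
    rw [Nat.card_eq_fintype_card]
    simp
  have c1 : 16 * Nat.card H₀ ≤ Nat.card (Subgroup.centralizer ({z} : Set G)) := by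
    have h := Nat.card_le_card_of_injective φ hφ
    rwa [Nat.card_prod, cV] at h
  let f' : Fin 1344 → H₀ := fun i => ⟨f i, hf i⟩
  have hf' : Function.Injective f' := by
    intro i j hij
    apply hdist
    intro a
    have h : f i = f j := congrArg Subtype.val hij
    rw [h]
  have c2 : 1344 ≤ Nat.card H₀ := by
    have h := Nat.card_le_card_of_injective f' hf'
    simpa using h
  have c3 : Nat.card H₀ = 1344 := by omega
  have c4 : Nat.card (Subgroup.centralizer ({z} : Set G)) = 21504 := by omega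
  have hφs : Function.Surjective φ := by
    have h : Function.Bijective φ := by
      rw [Nat.bijective_iff_injective_and_card]
      refine ⟨hφ, ?_⟩
      rw [Nat.card_prod, cV, c3, c4]
    exact h.2
  have hf's : Function.Surjective f' := by
    have h : Function.Bijective f' := by
      rw [Nat.bijective_iff_injective_and_card]
      refine ⟨hf', ?_⟩
      rw [c3]; simp
    exact h.2
  refine ⟨?_, ?_, c4⟩
  · intro g hg
    obtain ⟨⟨t, h⟩, hp⟩ := hφs ⟨g, hg⟩
    obtain ⟨i, hi⟩ := hf's h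
    refine ⟨t, i, ?_⟩
    have e1 : wOf t * h.1 = g := congrArg Subtype.val hp
    have e2 : f i = h.1 := congrArg Subtype.val hi
    rw [e2, e1]
  · intro g _ hfix
    have gH : g ∈ H₀ := by
      have h := hfix 0
      rw [w0, inv_one, one_mul, mul_one] at h
      exact h
    have gcomm : ∀ a, g * wOf a * g⁻¹ = wOf a := by
      intro a
      obtain ⟨b, hb⟩ := hnorm g gH a
      have h := H₀.mul_mem (hfix a) (H₀.inv_mem gH)
      have e : (wOf a)⁻¹ * g * wOf a * g⁻¹ = wOf (a + b) := by
        rw [hadd, ← hb, winv]; group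
      rw [e] at h
      have e2 : a = b := eq_of_add _ _ (hWH _ h)
      rw [hb, ← e2]
    obtain ⟨i, hi⟩ := hf's ⟨g, gH⟩
    obtain ⟨j, hj⟩ := hf's ⟨1, H₀.one_mem⟩
    have hi' : f i = g := congrArg Subtype.val hi
    have hj' : f j = 1 := congrArg Subtype.val hj
    have hij : i = j := by
      apply hdist
      intro a
      rw [hi', hj', gcomm a]
      simp
    rw [hij, hj'] at hi'
    exact hi'.symm

end Cfsg.Agent.Lib.Helper97.HeODEC
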