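import Mathlib
import Cfsg.Prelude.Def_GeometricClasses
import Cfsg.Agent.Lib.Helper71.Asch0
import Cfsg.Agent.Lib.Helper86.ASB8Defs

/-!
# S5630, piece B8.TW2B (helper97 for helper86): transport of the standard form on the `k`-th
tensor power of `F²` along `e`, `P`; the tensor-wreath subgroup with factors of dimension 2 lies
in a member of class 8.
-/

set_option autoImplicit false

namespace Cfsg.Agent.Lib.Helper97.ASB8TW2B

open Matrix Cfsg.Geo Cfsg.Agent.Lib.Helper71.Asch Cfsg.Agent.Lib.Helper86.ASB8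

variable {F : Type*} [Field F]

/-- B8.TW2B: transport of the standard form and class membership. -/
theorem tw2_of_std [Fintype F] {n : ℕ} (hn : 3 ≤ n) {k : ℕ} (hk : 2 ≤ k)
    (e : Fin n ≃ (Fin k → Fin 2)) (P : GL (Fin n) F)
    (f₀ : ((Fin k → Fin 2) → F) → ((Fin k → Fin 2) → F) → F)
    (hb : IsBilinearForm f₀) (hnd : IsNondegenerateForm f₀)
    (hsym : ∀ u v, f₀ v u = (-1) ^ k * f₀ u v)
    (halt : ((2 : F) = 0 ∨ Odd k) → ∀ v, f₀ v v = 0)
    (hle : tensorWreathStandard 2 k F ≤ similarityGroup f₀) :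
    InCls (tensorWreathSubgroup 2 k e P) := by
  classical
  have hcard : n = 2 ^ k := by
    have h1 := Fintype.card_congr e
    rw [Fintype.card_fin, Fintype.card_fun, Fintype.card_fin, Fintype.card_fin] at h1
    exact h1
  have h4 : 4 ≤ n := by
    rw [hcard]
    calc 4 = 2 ^ 2 := rfl
      _ ≤ 2 ^ k := Nat.pow_le_pow_right (by norm_num) hk
  have heven : Even n := by
    rw [hcard]
    exact (Nat.even_pow.mpr ⟨even_two, by omega⟩)
  obtain ⟨T, hT⟩ : ∃ T : (Fin n → F) → ((Fin k → Fin 2) → F),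
      ∀ v x, T v x = ((P⁻¹ : GL (Fin n) F).1 *ᵥ v) (e.symm x) :=
    ⟨fun v x => ((P⁻¹ : GL (Fin n) F).1 *ᵥ v) (e.symm x), fun v x => rfl⟩
  have hTadd : ∀ u v, T (u + v) = T u + T v := by
    intro u v
    funext x
    rw [Pi.add_apply, hT, hT, hT, Matrix.mulVec_add, Pi.add_apply]
  have hTsmul : ∀ (c : F) v, T (c • v) = c • T v := by
    intro c v
    funext x
    rw [Pi.smul_apply, hT, hT, Matrix.mulVec_smul, Pi.smul_apply]
  have hTsurj : ∀ w : (Fin k → Fin 2) → F, ∃ v, T v = w := by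
    intro w
    refine ⟨P.1 *ᵥ (fun i => w (e i)), ?_⟩
    funext x
    rw [hT, Matrix.mulVec_mulVec, ← Units.val_mul, inv_mul_cancel, Units.val_one,
      Matrix.one_mulVec, Equiv.apply_symm_apply]
  have hTinj : ∀ v, T v = 0 → v = 0 := by
    intro v hv
    have h1 : (P⁻¹ : GL (Fin n) F).1 *ᵥ v = 0 := by
      funext i
      have h3 := congrFun hv (e i)
      rw [hT, Equiv.symm_apply_apply] at h3
      exact h3
    have h2 := congrArg (fun w => P.1 *ᵥ w) h1
    simp only [Matrix.mulVec_zero] at h2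
    rw [Matrix.mulVec_mulVec, ← Units.val_mul, mul_inv_cancel, Units.val_one,
      Matrix.one_mulVec] at h2
    exact h2
  obtain ⟨f, hf⟩ : ∃ f : (Fin n → F) → (Fin n → F) → F, ∀ u v, f u v = f₀ (T u) (T v) :=
    ⟨fun u v => f₀ (T u) (T v), fun u v => rfl⟩
  have hfb : IsBilinearForm f := by
    refine ⟨fun x y v => ?_, fun c x v => ?_, fun v x y => ?_, fun c v x => ?_⟩
    · rw [hf, hf, hf, hTadd, hb.add_left]
    · rw [hf, hf, hTsmul, hb.smul_left]
    · rw [hf, hf, hf, hTadd, hb.add_right]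
    · rw [hf, hf, hTsmul, hb.smul_right]
  have hfnd : IsNondegenerateForm f := by
    intro v hv
    have hTv : T v ≠ 0 := fun h0 => hv (hTinj v h0)
    obtain ⟨⟨x, hx⟩, ⟨y, hy⟩⟩ := hnd (T v) hTv
    obtain ⟨x', rfl⟩ := hTsurj x
    obtain ⟨y', rfl⟩ := hTsurj y
    exact ⟨⟨x', by rw [hf]; exact hx⟩, ⟨y', by rw [hf]; exact hy⟩⟩
  have hfsym : ∀ u v, f v u = (-1) ^ k * f u v := by
    intro u v
    rw [hf, hf, hsym]
  have hsim : tensorWreathSubgroup 2 k e P ≤ similarityGroup f := by
    intro g hg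
    unfold tensorWreathSubgroup at hg
    obtain ⟨y, hy, rfl⟩ := Subgroup.mem_map.mp hg
    obtain ⟨g₀, hg₀, rfl⟩ := Subgroup.mem_map.mp hy
    obtain ⟨c, hc⟩ := hle hg₀
    have hTg : ∀ w : Fin n → F,
        T (((MulAut.conj P).toMonoidHom ((glReindex e.symm).toMonoidHom g₀) :
          GL (Fin n) F).1 *ᵥ w) = g₀.1 *ᵥ T w := by
      intro w
      funext x
      rw [hT]
      have h1 : ((MulAut.conj P).toMonoidHom ((glReindex e.symm).toMonoidHom g₀) :
          GL (Fin n) F) = P * glReindex e.symm g₀ * P⁻¹ := rfl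
      rw [h1, Units.val_mul, Units.val_mul, Matrix.mulVec_mulVec, ← Matrix.mul_assoc,
        ← Matrix.mul_assoc, ← Units.val_mul, inv_mul_cancel, Units.val_one, Matrix.one_mul,
        ← Matrix.mulVec_mulVec]
      show ∑ j, (glReindex e.symm g₀ : GL (Fin n) F).1 (e.symm x) j *
          ((P⁻¹ : GL (Fin n) F).1 *ᵥ w) j = ∑ y, g₀.1 x y * T w y
      apply Fintype.sum_equiv e
      intro j
      rw [hT, Equiv.symm_apply_apply]
      have h2 : (glReindex e.symm g₀ : GL (Fin n) F).1 (e.symm x) j =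
          g₀.1 (e (e.symm x)) (e j) := rfl
      rw [h2, Equiv.apply_symm_apply]
    show ∃ c : Fˣ, ∀ u v : Fin n → F,
      f (((MulAut.conj P).toMonoidHom ((glReindex e.symm).toMonoidHom g₀) :
          GL (Fin n) F).1 *ᵥ u)
        (((MulAut.conj P).toMonoidHom ((glReindex e.symm).toMonoidHom g₀) :
          GL (Fin n) F).1 *ᵥ v) = (c : F) * f u v
    refine ⟨c, fun u v => ?_⟩
    rw [hf, hf, hTg, hTg]
    exact hc (T u) (T v)
  by_cases hcase : (2 : F) = 0 ∨ Odd k
  · have hneg : (-1 : F) ^ k = -1 := by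
      rcases hcase with h2 | hodd
      · have h3 : (-1 : F) = 1 := by
          have h5 : (1 : F) + 1 = 0 := by rw [one_add_one_eq_two, h2]
          exact neg_eq_of_add_eq_zero_right h5
        rw [h3, one_pow]
      · exact hodd.neg_one_pow
    have hsymp : IsSymplecticForm f := by
      refine ⟨hfb, fun v w => ?_, fun v => ?_, hfnd⟩
      · rw [hfsym w v, hneg, neg_one_mul]
      · rw [hf]
        exact halt hcase (T v)
    exact ⟨similarityGroup f, Or.inr (Or.inr (Or.inr (Or.inr (Or.inr (Or.inr (Or.inr (Or.inr (Or.inr (Or.inl ⟨f, hsymp, heven, h4, rfl⟩))))))))), hsim⟩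
  · push Not at hcase
    obtain ⟨h2, hnodd⟩ := hcase
    have hkeven : Even k := Nat.not_odd_iff_even.mp hnodd
    have hone : (-1 : F) ^ k = 1 := hkeven.neg_one_pow
    have hfs : ∀ u v, f v u = f u v := by
      intro u v
      rw [hfsym, hone, one_mul]
    have hpolar : QuadraticMap.polar (fun v => f v v) = fun u v => 2 * f u v := by
      funext u v
      show f (u + v) (u + v) - f u u - f v v = 2 * f u v
      rw [hfb.add_left, hfb.add_right, hfb.add_right, hfs u v]
      ring
    have hQ : IsNondegenerateQuadraticForm (fun v => f v v) := by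
      refine ⟨fun c v => ?_, ?_, ?_⟩
      · show f (c • v) (c • v) = c ^ 2 * f v v
        rw [hfb.smul_left, hfb.smul_right]
        ring
      · rw [hpolar]
        refine ⟨fun x y v => ?_, fun c x v => ?_, fun v x y => ?_, fun c v x => ?_⟩
        · show 2 * f (x + y) v = 2 * f x v + 2 * f y v
          rw [hfb.add_left]
          ring
        · show 2 * f (c • x) v = c * (2 * f x v)
          rw [hfb.smul_left]
          ring
        · show 2 * f v (x + y) = 2 * f v x + 2 * f v y
          rw [hfb.add_right]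
          ring
        · show 2 * f v (c • x) = c * (2 * f v x)
          rw [hfb.smul_right]
          ring
      · rw [hpolar]
        intro v hv
        obtain ⟨⟨x, hx⟩, ⟨y, hy⟩⟩ := hfnd v hv
        exact ⟨⟨x, mul_ne_zero h2 hx⟩, ⟨y, mul_ne_zero h2 hy⟩⟩
    have hoddF : Odd (Fintype.card F) := by
      rw [← Nat.not_even_iff_odd, Nat.even_iff]
      intro h0
      have h3 := FiniteField.even_card_iff_char_two.mpr h0
      apply h2
      have h5 : ((2 : ℕ) : F) = 0 := (ringChar.spec F 2).mpr (by rw [h3])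
      exact_mod_cast h5
    have hle2 : similarityGroup f ≤ quadSimilarityGroup (fun v => f v v) := by
      intro g hg
      obtain ⟨c, hc⟩ := hg
      exact ⟨c, fun v => hc v v⟩
    exact ⟨quadSimilarityGroup (fun v => f v v), Or.inr (Or.inr (Or.inr (Or.inr (Or.inr (Or.inr (Or.inr (Or.inr (Or.inr (Or.inr (Or.inr (⟨_, hQ, hoddF, hn, rfl⟩))))))))))), hsim.trans hle2⟩

end Cfsg.Agent.Lib.Helper97.ASB8TW2B
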