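import Cfsg.Agent.Lib.Helper22.PTDefs
import Cfsg.Agent.Lib.Helper68.BFPDEC
import Cfsg.Agent.Lib.Helper33.TIFour
import Cfsg.Agent.Lib.Helper82.CharCore

/-!
# S4705 project (helper22, "PT"), piece BLKR2 (helper97)

From the rest sums: exactly two irreducible characters outside the family `Y` (with the central
character of `ζ`) do not vanish on the nontrivial powers of `z`; they take the values `1` and
`-1` there, and this gives the block structure `Blk`.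
-/

set_option autoImplicit false

namespace Cfsg.Agent.Lib.Helper97.PT

open Cfsg Cfsg.Agent.Lib.Helper22.BFD Cfsg.Agent.Lib.Helper22.PT
open scoped ComplexConjugate

universe u

variable {G : Type u} [Group G] [Fintype G]

/-- integers whose squares sum to `2`: exactly two of them are `± 1`, the others vanish. -/
theorem blkr2_two_squares {ι : Type*} [Fintype ι] [DecidableEq ι] (N : ι → ℤ)
    (hN : ∑ i, N i ^ 2 = 2) :
    ∃ a b : ι, a ≠ b ∧ (N a = 1 ∨ N a = -1) ∧ (N b = 1 ∨ N b = -1) ∧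
      ∀ c, c ≠ a → c ≠ b → N c = 0 := by
  have hnn : ∀ (s : Finset ι), 0 ≤ ∑ i ∈ s, N i ^ 2 :=
    fun s => Finset.sum_nonneg (fun i _ => sq_nonneg _)
  have hsq : ∀ x : ℤ, x ≠ 0 → x ^ 2 ≤ 2 → (x = 1 ∨ x = -1) ∧ x ^ 2 = 1 := by
    intro x hx h2
    have h1 : -1 ≤ x := by nlinarith
    have h3 : x ≤ 1 := by nlinarith
    have h4 : x = 1 ∨ x = -1 := by omega
    rcases h4 with h | h <;> simp [h]
  obtain ⟨a, ha⟩ : ∃ a, N a ≠ 0 := by
    by_contra hcon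
    push_neg at hcon
    rw [Finset.sum_eq_zero (fun i _ => by rw [hcon i]; ring)] at hN
    norm_num at hN
  have h1 : N a ^ 2 + ∑ i ∈ Finset.univ.erase a, N i ^ 2 = 2 := by
    rw [← hN]
    exact Finset.add_sum_erase Finset.univ (fun i => N i ^ 2) (Finset.mem_univ a)
  have h2 := hnn (Finset.univ.erase a)
  obtain ⟨ha1, ha2⟩ := hsq (N a) ha (by linarith)
  have h3 : ∑ i ∈ Finset.univ.erase a, N i ^ 2 = 1 := by linarith
  obtain ⟨b, hb, hb0⟩ : ∃ b ∈ Finset.univ.erase a, N b ≠ 0 := by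
    by_contra hcon
    push_neg at hcon
    rw [Finset.sum_eq_zero (fun i hi => by rw [hcon i hi]; ring)] at h3
    norm_num at h3
  have h4 : N b ^ 2 + ∑ i ∈ (Finset.univ.erase a).erase b, N i ^ 2 = 1 := by
    rw [← h3]
    exact Finset.add_sum_erase (Finset.univ.erase a) (fun i => N i ^ 2) hb
  have h5 := hnn ((Finset.univ.erase a).erase b)
  obtain ⟨hb1, hb2⟩ := hsq (N b) hb0 (by linarith)
  have h6 : ∑ i ∈ (Finset.univ.erase a).erase b, N i ^ 2 = 0 := by linarith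
  refine ⟨a, b, ?_, ha1, hb1, ?_⟩
  · exact fun h => (Finset.ne_of_mem_erase hb) h.symm
  · intro c hca hcb
    have h7 := (Finset.sum_eq_zero_iff_of_nonneg (fun i _ => sq_nonneg (N i))).mp h6 c
      (by simp [hca, hcb])
    exact pow_eq_zero_iff (two_ne_zero) |>.mp h7

/-- PIECE BLKR2 -/
theorem blkR2 [Fintype (IrrCharacter G)] (p : ℕ) [Fact p.Prime] (w : ℂ)
    (hw : IsPrimitiveRoot w p) (z : G) (ζ : G → ℂ) (h : Hyp G p z ζ) (hl : Loc G p z ζ)
    (u : ZMod p) (hu : u ≠ 0) (Y : (ZMod p)ˣ → IrrCharacter G)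
    (hY : YFam p w z ζ u Y) (hR : RestP p z (cz ζ) Y) :
    ∃ χ₁ χ₂ : IrrCharacter G, Blk G p w z (cz ζ) u χ₁ χ₂ Y := by
  classical
  have hp : p.Prime := Fact.out
  have : Fact (1 < p) := ⟨hp.one_lt⟩
  have hp5 : 5 < p := h.p5
  have hpz : (5 : ℤ) < p := by exact_mod_cast hp5
  have hzp : z ^ p = 1 := by rw [← h.ord]; exact pow_orderOf_eq_one z
  have hval1 : (1 : ZMod p).val = 1 := ZMod.val_one p
  obtain ⟨hY1, hYzc, hYval, hYdeg, hYreg, hYeq⟩ := hY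
  obtain ⟨hR1, hR2, hR3⟩ := hR
  -- the integers
  have hex : ∀ φ : IrrCharacter G, ∃ n : ℤ,
      ((ZC (cz ζ) φ.1 ∧ ∀ k, φ ≠ Y k) → ∀ t : ZMod p, t ≠ 0 → φ.1 (z ^ t.val) = (n : ℂ)) ∧
        (¬ (ZC (cz ζ) φ.1 ∧ ∀ k, φ ≠ Y k) → n = 0) := by
    intro φ
    by_cases hφ : ZC (cz ζ) φ.1 ∧ ∀ k, φ ≠ Y k
    · obtain ⟨n, hn⟩ := hR1 φ hφ.1 hφ.2
      exact ⟨n, fun _ => hn, fun h => absurd hφ h⟩
    · exact ⟨0, fun h => absurd h hφ, fun _ => rfl⟩
  choose N hN hN0 using hex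
  -- degrees
  have hdeg : ∀ φ : IrrCharacter G,
      ((charDegree φ.1 : ℕ) : ℂ) = φ.1 1 ∧ charDegree φ.1 ≠ 0 :=
    fun φ => Cfsg.Agent.Lib.Helper82.irr_charDegree φ
  -- values at z
  have hNz : ∀ φ : IrrCharacter G, (ZC (cz ζ) φ.1 ∧ ∀ k, φ ≠ Y k) → φ.1 z = (N φ : ℂ) := by
    intro φ hφ
    have h1 := hN φ hφ 1 one_ne_zero
    rwa [hval1, pow_one] at h1
  -- sum of squares
  have hsq : ∑ φ : IrrCharacter G, N φ ^ 2 = 2 := by
    have h1 : ∑ φ : IrrCharacter G, ((N φ : ℂ)) ^ 2 = 2 := by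
      rw [← hR2]
      apply Finset.sum_congr rfl
      intro φ _
      by_cases hφ : ZC (cz ζ) φ.1 ∧ ∀ k, φ ≠ Y k
      · rw [if_pos hφ, hNz φ hφ, map_intCast]
        ring
      · rw [if_neg hφ, hN0 φ hφ]
        simp
    exact_mod_cast h1
  have hds : ∑ φ : IrrCharacter G, ((charDegree φ.1 : ℕ) : ℤ) * N φ = -((p : ℤ) - 2) := by
    have h1 : ∑ φ : IrrCharacter G, ((charDegree φ.1 : ℕ) : ℂ) * (N φ : ℂ) =
        -((p : ℂ) - 2) := by
      rw [← hR3]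
      apply Finset.sum_congr rfl
      intro φ _
      by_cases hφ : ZC (cz ζ) φ.1 ∧ ∀ k, φ ≠ Y k
      · rw [if_pos hφ, hNz φ hφ, map_intCast, (hdeg φ).1]
      · rw [if_neg hφ, hN0 φ hφ]
        simp
    exact_mod_cast h1
  -- the congruence
  have hcong : ∀ φ : IrrCharacter G, (ZC (cz ζ) φ.1 ∧ ∀ k, φ ≠ Y k) → ∃ a0 : ℕ,
      ((charDegree φ.1 : ℕ) : ℤ) + ((p : ℤ) - 1) * N φ = (p : ℤ) * (a0 : ℤ) := by
    intro φ hφ
    have hchar : IsCharacter G φ.1 := by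
      obtain ⟨n, ρ, -, hρ⟩ := φ.2
      exact ⟨n, ρ, hρ⟩
    obtain ⟨a, ha⟩ := Cfsg.Agent.Lib.Helper68.BFT.pdec p w hw φ.1 hchar z hzp
    refine ⟨a 0, ?_⟩
    have h1 : ∑ t : ZMod p, φ.1 (z ^ t.val) = (p : ℂ) * (a 0 : ℂ) := by
      rw [Finset.sum_congr rfl (fun t _ => ha t), Finset.sum_comm]
      have h2 : ∀ v : ZMod p, ∑ t : ZMod p, (a v : ℂ) * w ^ (v * t).val =
          if v = 0 then (p : ℂ) * (a 0 : ℂ) else 0 := by
        intro v
        rw [← Finset.mul_sum, Cfsg.Agent.Lib.Helper33.TI.sum_pow_val p w hw v]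
        by_cases hv : v = 0
        · subst hv
          rw [if_pos rfl, if_pos rfl]
          ring
        · rw [if_neg hv, if_neg hv, mul_zero]
      rw [Finset.sum_congr rfl (fun v _ => h2 v)]
      simp
    have h3 : ∑ t : ZMod p, φ.1 (z ^ t.val) = φ.1 1 + ((p : ℂ) - 1) * (N φ : ℂ) := by
      rw [← Finset.add_sum_erase Finset.univ _ (Finset.mem_univ (0 : ZMod p))]
      rw [ZMod.val_zero, pow_zero]
      congr 1
      rw [Finset.sum_congr rfl (fun t ht => hN φ hφ t (Finset.ne_of_mem_erase ht))]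
      rw [Finset.sum_const, Finset.card_erase_of_mem (Finset.mem_univ _), Finset.card_univ,
        ZMod.card, nsmul_eq_mul, Nat.cast_sub hp.one_lt.le]
      simp
    have h4 : ((charDegree φ.1 : ℕ) : ℂ) + ((p : ℂ) - 1) * (N φ : ℂ) = (p : ℂ) * (a 0 : ℂ) := by
      rw [(hdeg φ).1, ← h3, h1]
    exact_mod_cast h4
  obtain ⟨φa, φb, hab, hNa, hNb, hrest⟩ := blkr2_two_squares N hsq
  have hRa : ZC (cz ζ) φa.1 ∧ ∀ k, φa ≠ Y k := by
    by_contra hc
    have h1 := hN0 φa hc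
    rcases hNa with h2 | h2 <;> omega
  have hRb : ZC (cz ζ) φb.1 ∧ ∀ k, φb ≠ Y k := by
    by_contra hc
    have h1 := hN0 φb hc
    rcases hNb with h2 | h2 <;> omega
  have hsum2 : ((charDegree φa.1 : ℕ) : ℤ) * N φa + ((charDegree φb.1 : ℕ) : ℤ) * N φb =
      -((p : ℤ) - 2) := by
    rw [← hds]
    symm
    apply Fintype.sum_eq_add φa φb hab
    intro x hx
    rw [hrest x hx.1 hx.2, mul_zero]
  -- the key
  have key : ∀ φ1 φ2 : IrrCharacter G, (ZC (cz ζ) φ1.1 ∧ ∀ k, φ1 ≠ Y k) →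
      (ZC (cz ζ) φ2.1 ∧ ∀ k, φ2 ≠ Y k) → φ1 ≠ φ2 → N φ1 = 1 → N φ2 = -1 →
      (∀ c, c ≠ φ1 → c ≠ φ2 → N c = 0) →
      ((charDegree φ1.1 : ℕ) : ℤ) - ((charDegree φ2.1 : ℕ) : ℤ) = -((p : ℤ) - 2) →
      Blk G p w z (cz ζ) u φ1 φ2 Y := by
    intro φ1 φ2 h1 h2 h12 hN1 hN2 hothers hdd
    obtain ⟨a0, ha0⟩ := hcong φ1 h1
    rw [hN1] at ha0
    have hd1 := (hdeg φ1).2
    have ha1 : 1 ≤ a0 := by
      by_contra hc
      have h0 : a0 = 0 := by omega
      subst h0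
      have hpos : 0 < charDegree φ1.1 := Nat.pos_of_ne_zero hd1
      have hpos' : (0 : ℤ) < ((charDegree φ1.1 : ℕ) : ℤ) := by exact_mod_cast hpos
      simp only [Nat.cast_zero, mul_zero, mul_one] at ha0
      linarith
    refine ⟨h1.1, h2.1, hYzc, ?_, ?_, hYval, hYdeg, ⟨a0 - 1, ?_⟩, ?_, ?_, hYeq, h12, ?_, ?_, ?_⟩
    · intro t ht
      rw [hN φ1 h1 t ht, hN1]
      simp
    · intro t ht
      rw [hN φ2 h2 t ht, hN2]
      simp
    · rw [← (hdeg φ1).1]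
      have h3 : ((charDegree φ1.1 : ℕ) : ℤ) = 1 + ((a0 - 1 : ℕ) : ℤ) * (p : ℤ) := by
        rw [Nat.cast_sub ha1]
        push_cast
        linarith
      exact_mod_cast h3
    · rw [← (hdeg φ1).1, ← (hdeg φ2).1]
      have h3 : ((charDegree φ2.1 : ℕ) : ℤ) = ((charDegree φ1.1 : ℕ) : ℤ) + ((p : ℤ) - 2) := by
        linarith
      exact_mod_cast h3
    · intro k g hg
      rw [hYreg k g hg, hY1]
    · intro k hk
      exact h1.2 k hk.symm
    · intro k hk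
      exact h2.2 k hk.symm
    · intro φ hφ
      by_cases e1 : φ = φ1
      · exact Or.inl e1
      by_cases e2 : φ = φ2
      · exact Or.inr (Or.inl e2)
      by_cases e3 : ∃ k, φ = Y k
      · exact Or.inr (Or.inr (Or.inl e3))
      · right; right; right
        intro t ht
        have hr : ZC (cz ζ) φ.1 ∧ ∀ k, φ ≠ Y k := ⟨hφ, fun k hk => e3 ⟨k, hk⟩⟩
        rw [hN φ hr t ht, hothers φ e1 e2]
        simp
  have hda : (0 : ℤ) ≤ ((charDegree φa.1 : ℕ) : ℤ) := Int.natCast_nonneg _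
  have hdb : (0 : ℤ) ≤ ((charDegree φb.1 : ℕ) : ℤ) := Int.natCast_nonneg _
  rcases hNa with ha | ha <;> rcases hNb with hb | hb
  · exfalso
    rw [ha, hb] at hsum2
    linarith
  · exact ⟨φa, φb, key φa φb hRa hRb hab ha hb hrest (by rw [ha, hb] at hsum2; linarith)⟩
  · exact ⟨φb, φa, key φb φa hRb hRa hab.symm hb ha (fun c h1 h2 => hrest c h2 h1)
      (by rw [ha, hb] at hsum2; linarith)⟩
  · exfalso
    obtain ⟨a0, ha0⟩ := hcong φa hRa
    obtain ⟨b0, hb0⟩ := hcong φb hRb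
    rw [ha] at ha0
    rw [hb] at hb0
    rw [ha, hb] at hsum2
    have h1 : (0 : ℤ) ≤ (p : ℤ) * (a0 : ℤ) := by positivity
    have h2 : (0 : ℤ) ≤ (p : ℤ) * (b0 : ℤ) := by positivity
    linarith

end Cfsg.Agent.Lib.Helper97.PT
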