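import Mathlib

set_option autoImplicit false
open scoped Pointwise

namespace Cfsg.Agent.Lib.Helper97

/-- The stabilizer of the unordered pair `{O, Oᶜ}` in the symmetric group. -/
def pairStab {Ω : Type*} (O : Set Ω) : Subgroup (Equiv.Perm Ω) where
  carrier := {g | g • O = O ∨ g • O = Oᶜ}
  one_mem' := Or.inl (one_smul _ _)
  mul_mem' := by
    rintro a b (ha | ha) (hb | hb)
    · left; rw [mul_smul, hb, ha]
    · right; rw [mul_smul, hb, Set.smul_set_compl, ha]
    · right; rw [mul_smul, hb, ha]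
    · left; rw [mul_smul, hb, Set.smul_set_compl, ha, compl_compl]
  inv_mem' := by
    rintro a (ha | ha)
    · left; rw [inv_smul_eq_iff, ha]
    · right; rw [inv_smul_eq_iff, Set.smul_set_compl, ha, compl_compl]

theorem mem_pairStab {Ω : Type*} (O : Set Ω) (g : Equiv.Perm Ω) :
    g ∈ pairStab O ↔ (g • O = O ∨ g • O = Oᶜ) := Iff.rfl

theorem exists_perm_smul_eq_compl {Ω : Type*} [Finite Ω] (O : Set Ω)
    (hO : Nat.card O = Nat.card ↥Oᶜ) : ∃ τ : Equiv.Perm Ω, τ • O = Oᶜ := by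
  classical
  obtain ⟨e⟩ := (Finite.card_eq).mp hO
  let τ : Equiv.Perm Ω := (Equiv.Set.sumCompl O).symm.trans
      ((Equiv.sumCongr e e.symm).trans ((Equiv.sumComm _ _).trans (Equiv.Set.sumCompl O)))
  refine ⟨τ, ?_⟩
  ext y
  constructor
  · rintro ⟨x, hx, rfl⟩
    have : τ x = (e ⟨x, hx⟩ : Ω) := by
      simp [τ, Equiv.Set.sumCompl_symm_apply_of_mem hx]
    change τ x ∈ Oᶜ
    rw [this]
    exact (e ⟨x, hx⟩).2
  · intro hy
    refine ⟨(e.symm ⟨y, hy⟩ : Ω), (e.symm ⟨y, hy⟩).2, ?_⟩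
    change τ (e.symm ⟨y, hy⟩ : Ω) = y
    simp [τ, Equiv.Set.sumCompl_symm_apply_of_mem (e.symm ⟨y, hy⟩).2]

/-- If `O` has as many elements as its complement and `Ω` has more than two elements, the stabilizer
of `O` lies strictly below a proper subgroup of the symmetric group. -/
theorem exists_between_stabilizer {Ω : Type*} [Finite Ω] (hΩ : 2 < Nat.card Ω)
    (O : Set Ω) (hO : Nat.card O = Nat.card ↥Oᶜ) :
    ∃ L : Subgroup (Equiv.Perm Ω), MulAction.stabilizer (Equiv.Perm Ω) O < L ∧ L < ⊤ := by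
  classical
  have hsum := Set.ncard_add_ncard_compl O
  rw [Nat.card_coe_set_eq, Nat.card_coe_set_eq] at hO
  have h2 : 1 < O.ncard := by omega
  have h2c : 0 < Oᶜ.ncard := by omega
  obtain ⟨a, a', ha, ha', haa'⟩ := (Set.one_lt_ncard_iff (Set.toFinite O)).mp h2
  obtain ⟨b, hb⟩ := (Set.ncard_pos (Set.toFinite _)).mp h2c
  have hab : a ≠ b := fun h => hb (h ▸ ha)
  have ha'b : a' ≠ b := fun h => hb (h ▸ ha')
  refine ⟨pairStab O, ?_, ?_⟩
  · refine lt_of_le_of_ne (fun g hg => Or.inl (MulAction.mem_stabilizer_iff.mp hg)) ?_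
    intro heq
    obtain ⟨τ, hτ⟩ := exists_perm_smul_eq_compl O (by rw [Nat.card_coe_set_eq, Nat.card_coe_set_eq]; exact hO)
    have hτmem : τ ∈ pairStab O := Or.inr hτ
    rw [← heq, MulAction.mem_stabilizer_iff, hτ] at hτmem
    have : a ∈ Oᶜ := by rw [hτmem]; exact ha
    exact this ha
  · refine lt_top_iff_ne_top.mpr (fun htop => ?_)
    have hmem : Equiv.swap a b ∈ pairStab O := htop ▸ Subgroup.mem_top _
    have hb' : b ∈ Equiv.swap a b • O := ⟨a, ha, Equiv.swap_apply_left a b⟩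
    have ha'' : a' ∈ Equiv.swap a b • O :=
      ⟨a', ha', Equiv.swap_apply_of_ne_of_ne haa'.symm ha'b⟩
    rcases hmem with h | h
    · rw [h] at hb'; exact hb hb'
    · rw [h] at ha''; exact ha'' ha'

end Cfsg.Agent.Lib.Helper97
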