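import Mathlib
import Cfsg.Prelude.Def_GeometricClasses
import Cfsg.Agent.Lib.Helper50.SpInv

/-!
# SP4E piece DIH (for S5789): the characteristic two dihedral argument with four indices
-/

set_option autoImplicit false

namespace Cfsg.Agent.Lib.Helper97.Sp4E

open Matrix Cfsg.Agent.Lib.Helper97 Cfsg.Agent.Lib.Helper50

variable {ι : Type} [Fintype ι] [DecidableEq ι] {F : Type*} [Field F] [Fintype F]

theorem le_H1_two_gen4 (i0 i1 i2 i3 : ι) (hd : [i0, i1, i2, i3].Nodup)
    {F₀ : Subfield F} {M : Subgroup (GL ι F)}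
    (hbM : ∀ t : GL ι F, (t : Matrix ι ι F) = tv (Pi.single i0 1) (Pi.single i1 1) → t ∈ M)
    (hcM : ∀ t : GL ι F, (t : Matrix ι ι F) = tv (Pi.single i2 1) (Pi.single i3 1) → t ∈ M)
    (hGPl : ∀ m ∈ M, ¬ GP F₀ m → m ∈ H1 ι F₀)
    (hsq : ∀ c : F, c ^ 2 ∈ F₀ → c ∈ F₀) (h2 : (2 : F) = 0) : M ≤ H1 ι F₀ := by
  have n01 : i0 ≠ i1 := by rintro rfl; simp at hd
  have n02 : i0 ≠ i2 := by rintro rfl; simp at hd
  have n03 : i0 ≠ i3 := by rintro rfl; simp at hd
  have n12 : i1 ≠ i2 := by rintro rfl; simp at hd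
  have n13 : i1 ≠ i3 := by rintro rfl; simp at hd
  have n23 : i2 ≠ i3 := by rintro rfl; simp at hd
  have h01 : (Pi.single i1 (1 : F) : ι → F) ⬝ᵥ Pi.single i0 1 = 0 :=
    single_dot_single_ne n01 1 1
  have h23 : (Pi.single i3 (1 : F) : ι → F) ⬝ᵥ Pi.single i2 1 = 0 :=
    single_dot_single_ne n23 1 1
  set s0 : ι → F := Pi.single i0 1 with hs0
  set s2 : ι → F := Pi.single i2 1 with hs2
  have s0_0 : s0 i0 = 1 := by rw [hs0, Pi.single_eq_same]
  have s0_1 : s0 i1 = 0 := by rw [hs0, Pi.single_eq_of_ne (Ne.symm n01)]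
  have s0_2 : s0 i2 = 0 := by rw [hs0, Pi.single_eq_of_ne (Ne.symm n02)]
  have s0_3 : s0 i3 = 0 := by rw [hs0, Pi.single_eq_of_ne (Ne.symm n03)]
  have s2_0 : s2 i0 = 0 := by rw [hs2, Pi.single_eq_of_ne n02]
  have s2_1 : s2 i1 = 0 := by rw [hs2, Pi.single_eq_of_ne n12]
  have s2_2 : s2 i2 = 1 := by rw [hs2, Pi.single_eq_same]
  have s2_3 : s2 i3 = 0 := by rw [hs2, Pi.single_eq_of_ne (Ne.symm n23)]
  set b0 : GL ι F := tvG s0 (Pi.single i1 1) h01 with hb0
  set c0 : GL ι F := tvG s2 (Pi.single i3 1) h23 with hc0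
  set a : GL ι F := b0 * c0 with ha
  have hbmv : ∀ y : ι → F, (b0 : Matrix ι ι F) *ᵥ y = y + y i1 • s0 := by
    intro y
    rw [hb0, tvG_val, tv_mulVec, single_dotProduct, one_mul]
  have hcmv : ∀ y : ι → F, (c0 : Matrix ι ι F) *ᵥ y = y + y i3 • s2 := by
    intro y
    rw [hc0, tvG_val, tv_mulVec, single_dotProduct, one_mul]
  have hamv : ∀ y : ι → F, (a : Matrix ι ι F) *ᵥ y =
      y + y i3 • s2 + y i1 • s0 := by
    intro y
    rw [ha, Units.val_mul, ← Matrix.mulVec_mulVec, hcmv, hbmv, Pi.add_apply, Pi.smul_apply,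
      s2_1, smul_zero, add_zero]
  have hb0M : b0 ∈ M := hbM b0 rfl
  have hc0M : c0 ∈ M := hcM c0 rfl
  have haM : a ∈ M := M.mul_mem hb0M hc0M
  have hsmul2 : ∀ (x : F) (v : ι → F), x • v + x • v = 0 := by
    intro x v
    rw [← two_smul F (x • v), h2, zero_smul]
  have hb2 : b0 * b0 = 1 := by
    apply Units.ext
    apply ext_mulVec_single
    intro k
    rw [Units.val_mul, ← Matrix.mulVec_mulVec, hbmv, hbmv, Units.val_one, Matrix.one_mulVec,
      Pi.add_apply, Pi.smul_apply, s0_1, smul_zero, add_zero, add_assoc, hsmul2, add_zero]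
  have ha2 : a * a = 1 := by
    apply Units.ext
    apply ext_mulVec_single
    intro k
    rw [Units.val_mul, ← Matrix.mulVec_mulVec, hamv, hamv, Units.val_one, Matrix.one_mulVec]
    simp only [Pi.add_apply, Pi.smul_apply, s0_1, s0_3, s2_1, s2_3, smul_zero, add_zero]
    have h5 := hsmul2 ((Pi.single k 1 : ι → F) i3) s2
    have h6 := hsmul2 ((Pi.single k 1 : ι → F) i1) s0
    calc (Pi.single k 1 : ι → F) + (Pi.single k 1 : ι → F) i3 • s2
          + (Pi.single k 1 : ι → F) i1 • s0 + (Pi.single k 1 : ι → F) i3 • s2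
          + (Pi.single k 1 : ι → F) i1 • s0
        = (Pi.single k 1 : ι → F) + ((Pi.single k 1 : ι → F) i3 • s2
          + (Pi.single k 1 : ι → F) i3 • s2) + ((Pi.single k 1 : ι → F) i1 • s0
          + (Pi.single k 1 : ι → F) i1 • s0) := by abel
      _ = Pi.single k 1 := by rw [h5, h6, add_zero, add_zero]
  refine le_H1_of_involutions hGPl hsq a b0 haM hb0M ha2 hb2 ?_ ?_ (Pi.single i1 1)
    (ratV_single F₀ _ F₀.one_mem) (single_ne_zero_gen _) ?_ ?_ ?_
  · intro h
    have h1 := congrFun (congrFun h i0) i1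
    rw [hb0, tvG_val, tv, Matrix.add_apply, Matrix.add_apply, Matrix.vecMulVec_apply, s0_0,
      Pi.single_eq_same, Matrix.one_apply_ne n01, Matrix.zero_apply, zero_add, mul_one,
      add_zero] at h1
    exact one_ne_zero h1
  · intro z haz hGP
    have h3 : (a : Matrix ι ι F) *ᵥ s0 = s0 := by
      rw [hamv, s0_3, s0_1, zero_smul, zero_smul, add_zero, add_zero]
    have h1 : (a : Matrix ι ι F) *ᵥ ((z : Matrix ι ι F) *ᵥ s0) =
        (z : Matrix ι ι F) *ᵥ s0 := by
      rw [Matrix.mulVec_mulVec, ← Units.val_mul, haz, Units.val_mul, ← Matrix.mulVec_mulVec, h3]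
    rw [hamv] at h1
    have h4 := congrFun h1 i0
    simp only [Pi.add_apply, Pi.smul_apply, s2_0, s0_0, smul_eq_mul, mul_zero, mul_one,
      add_zero] at h4
    have h5 : ((z : Matrix ι ι F) *ᵥ s0) i1 = 0 := by
      linear_combination h4
    apply hGP s0 (Pi.single i1 1) (ratV_single F₀ _ F₀.one_mem) (ratV_single F₀ _ F₀.one_mem)
      (single_ne_zero_gen _) (single_ne_zero_gen _)
    rw [single_dotProduct, one_mul, h5]
  · intro w hw
    rw [hbmv] at hw
    have h4 := congrFun hw i0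
    simp only [Pi.add_apply, Pi.smul_apply, s0_0, smul_eq_mul, mul_one] at h4
    rw [single_dotProduct, one_mul]
    linear_combination h4
  · intro g hg
    have hmv : ∀ y : ι → F, (a : Matrix ι ι F) *ᵥ y =
        y + (((g⁻¹ : GL ι F) : Matrix ι ι F) *ᵥ y) i1 •
          ((g : Matrix ι ι F) *ᵥ s0) := by
      intro y
      rw [hg, Units.val_mul, Units.val_mul, ← Matrix.mulVec_mulVec, ← Matrix.mulVec_mulVec,
        hbmv, Matrix.mulVec_add, Matrix.mulVec_smul, gl_mulVec_inv]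
    have e1 := hmv (Pi.single i1 1)
    have e3 := hmv (Pi.single i3 1)
    rw [hamv] at e1 e3
    rw [Pi.single_eq_same, Pi.single_eq_of_ne (Ne.symm n13), zero_smul, add_zero, one_smul,
      add_right_inj] at e1
    rw [Pi.single_eq_same, Pi.single_eq_of_ne n13, zero_smul, add_zero, one_smul,
      add_right_inj] at e3
    have f1 := congrFun e1 i0
    have f2 := congrFun e1 i2
    have f3 := congrFun e3 i2
    rw [Pi.smul_apply, smul_eq_mul, s0_0] at f1
    rw [Pi.smul_apply, smul_eq_mul, s0_2] at f2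
    rw [Pi.smul_apply, smul_eq_mul, s2_2] at f3
    have hα : (((g⁻¹ : GL ι F) : Matrix ι ι F) *ᵥ Pi.single i1 1) i1 ≠ 0 := by
      intro h
      rw [h, zero_mul] at f1
      exact one_ne_zero f1
    have hw2 : ((g : Matrix ι ι F) *ᵥ s0) i2 = 0 := by
      rcases mul_eq_zero.mp f2.symm with h | h
      · exact absurd h hα
      · exact h
    rw [hw2, mul_zero] at f3
    exact one_ne_zero f3
  · intro m
    by_cases hp : ((m⁻¹ : GL ι F) : Matrix ι ι F) i1 i0 = 0
    · refine ⟨s0, single_ne_zero_gen _, ?_, ?_⟩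
      · rw [hamv, s0_3, s0_1, zero_smul, zero_smul, add_zero, add_zero]
      · rw [hbmv]
        have h5 : (((m⁻¹ : GL ι F) : Matrix ι ι F) *ᵥ s0) i1 = 0 := by
          rw [hs0, Matrix.mulVec_single_one]
          exact hp
        rw [h5, zero_smul, add_zero]
    · refine ⟨((m⁻¹ : GL ι F) : Matrix ι ι F) i1 i2 • s0 +
        (-(((m⁻¹ : GL ι F) : Matrix ι ι F) i1 i0)) • s2, ?_, ?_, ?_⟩
      · intro h0
        have h1 := congrFun h0 i2
        simp only [Pi.add_apply, Pi.smul_apply, s0_2, s2_2, smul_eq_mul, mul_zero, mul_one,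
          zero_add, Pi.zero_apply] at h1
        exact hp (neg_eq_zero.mp h1)
      · rw [hamv]
        simp only [Pi.add_apply, Pi.smul_apply, s0_1, s0_3, s2_1, s2_3, smul_eq_mul, mul_zero,
          add_zero, zero_smul]
      · rw [hbmv]
        have h5 : (((m⁻¹ : GL ι F) : Matrix ι ι F) *ᵥ
            (((m⁻¹ : GL ι F) : Matrix ι ι F) i1 i2 • s0 +
              (-(((m⁻¹ : GL ι F) : Matrix ι ι F) i1 i0)) • s2)) i1 = 0 := by
          rw [Matrix.mulVec_add, Matrix.mulVec_smul, Matrix.mulVec_smul, hs0, hs2,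
            Matrix.mulVec_single_one, Matrix.mulVec_single_one]
          simp only [Pi.add_apply, Pi.smul_apply, smul_eq_mul, Matrix.col_apply]
          ring
        rw [h5, zero_smul, add_zero]

end Cfsg.Agent.Lib.Helper97.Sp4E
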